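import Groth.Agent.Lib.ProjCohom.Results
import Groth.Agent.Lib.GrTilde.Mul
import Groth.Agent.Lib.Euler.Basic
import Groth.Agent.Lib.ProjSp.Section
import Mathlib.RingTheory.Binomial
import Mathlib.Data.Finsupp.Multiset
import Mathlib.Data.Sym.Card

/-! # Global functions and Euler characteristic on projective space -/

set_option autoImplicit false
set_option linter.style.haveILetI false
set_option backward.isDefEq.respectTransparency false
universe u

open AlgebraicGeometry CategoryTheory CategoryTheory.Limits TopologicalSpace Opposite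

noncomputable section

namespace GrothLib.ProjCohom

variable {n : ℕ} {R : Type u} [CommRing R]

theorem weight_sum' (a : Fin (n + 1) →₀ ℕ) : Finsupp.weight (1 : Fin (n + 1) → ℕ) a = ∑ i, a i := weight_eq_sum a

/-- Forms of degree `k` are tuples of coefficients. -/
def formsEquiv (k : ℕ) : MvPolynomial.homogeneousSubmodule (Fin (n + 1)) R k ≃ₗ[R]
    ({P : Fin (n + 1) → ℕ // ∑ i, P i = k} → R) := by
  classical
  haveI : Fintype {P : Fin (n + 1) → ℕ // ∑ i, P i = k} :=
    Fintype.ofEquiv _ (Sym.equivNatSumOfFintype (Fin (n + 1)) k)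
  let mk : {P : Fin (n + 1) → ℕ // ∑ i, P i = k} → (Fin (n + 1) →₀ ℕ) := fun P => Finsupp.equivFunOnFinite.symm P.1
  exact
    { toFun := fun p P => MvPolynomial.coeff (mk P) p.1
      map_add' := fun p q => funext fun P => MvPolynomial.coeff_add _ _ _
      map_smul' := fun r p => funext fun P => MvPolynomial.coeff_smul _ _ _
      invFun := fun v => ⟨∑ P, MvPolynomial.monomial (mk P) (v P), Submodule.sum_mem _ fun P _ =>
        MvPolynomial.isHomogeneous_monomial (v P) (by
          rw [Finsupp.degree_eq_weight_one]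
          exact (weight_eq_sum (mk P)).trans P.2)⟩
      left_inv := fun p => Subtype.ext (MvPolynomial.ext _ _ fun a => by
        show MvPolynomial.coeff a (∑ P, MvPolynomial.monomial (mk P) (MvPolynomial.coeff (mk P) p.1)) = _
        rw [MvPolynomial.coeff_sum]
        by_cases ha : MvPolynomial.coeff a p.1 = 0
        · rw [ha]
          refine Finset.sum_eq_zero fun P _ => ?_
          rw [MvPolynomial.coeff_monomial]
          split_ifs with h
          · rw [h, ha]
          · rfl
        · let P₀ : {P : Fin (n + 1) → ℕ // ∑ i, P i = k} := ⟨fun i => a i, (weight_eq_sum a).symm.trans (p.2 ha)⟩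
          have hP₀ : mk P₀ = a := Finsupp.ext fun i => rfl
          rw [Finset.sum_eq_single P₀ (fun Q _ hQ => ?_) (fun h => absurd (Finset.mem_univ _) h),
            MvPolynomial.coeff_monomial, if_pos hP₀, hP₀]
          rw [MvPolynomial.coeff_monomial, if_neg]
          exact fun h => hQ (Subtype.ext (funext fun i => DFunLike.congr_fun h i)))
      right_inv := fun v => funext fun P => by
        show MvPolynomial.coeff (mk P) (∑ Q, MvPolynomial.monomial (mk Q) (v Q)) = v P
        rw [MvPolynomial.coeff_sum, Finset.sum_eq_single P (fun Q _ hQ => ?_)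
          (fun h => absurd (Finset.mem_univ _) h), MvPolynomial.coeff_monomial, if_pos rfl]
        rw [MvPolynomial.coeff_monomial, if_neg]
        exact fun h => hQ (Subtype.ext (funext fun i => DFunLike.congr_fun h i)) }

theorem finrank_forms {K : Type u} [Field K] (r k : ℕ) :
    Module.finrank K (MvPolynomial.homogeneousSubmodule (Fin (r + 1)) K k) = (r + k).choose k := by
  classical
  haveI : Fintype {P : Fin (r + 1) → ℕ // ∑ i, P i = k} :=
    Fintype.ofEquiv _ (Sym.equivNatSumOfFintype (Fin (r + 1)) k)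
  rw [(formsEquiv (n := r) (R := K) k).finrank_eq, Module.finrank_pi,
    ← Fintype.card_congr (Sym.equivNatSumOfFintype (Fin (r + 1)) k), Sym.card_sym_eq_choose, Fintype.card_fin]
  congr 1
  omega

theorem finrank_eq_zero_of_subsingleton' {K M : Type u} [Field K] [AddCommGroup M] [Module K M] [Subsingleton M] :
    Module.finrank K M = 0 := Module.finrank_zero_of_subsingleton

/-- The Euler characteristic of a twist. -/
theorem euler_twist (k : Type u) [Field k] (r : ℕ) (hr : 0 < r) (n : ℤ) :
    ((Finset.range (r + 1)).sum fun j => (-1 : ℤ) ^ j *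
        (Module.finrank k (Coh.HH (CohB1.ProjSpace r k) (Twist.twistProjSpace r k n) j) : ℤ)) =
      Ring.choose (n + r) r := by
  have hz : ∀ j, ¬ (j = 0 ∧ 0 ≤ n) → ¬ (j = r ∧ n ≤ -((r : ℤ) + 1)) →
      (Module.finrank k (Coh.HH (CohB1.ProjSpace r k) (Twist.twistProjSpace r k n) j) : ℤ) = 0 := fun j h h' => by
    haveI := subsingleton_HH (n := r) (R := k) (d := n) (q := j) h h'
    simp [Module.finrank_zero_of_subsingleton]
  rcases le_or_gt 0 n with hn | hn
  · lift n to ℕ using hn
    rw [Finset.sum_eq_single 0 (fun j _ hj => by rw [hz j (fun h => hj h.1) (fun h => by omega), mul_zero])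
      (fun h => absurd (Finset.mem_range.2 (by omega)) h)]
    obtain ⟨e⟩ := nonempty_HH_zero (n := r) (R := k) n
    rw [pow_zero, one_mul, e.finrank_eq, finrank_forms, ← Nat.cast_add, Ring.choose_natCast, Nat.add_comm n r,
      Nat.choose_symm_add]
  rcases le_or_gt n (-((r : ℤ) + 1)) with hn' | hn'
  · obtain ⟨j, rfl⟩ : ∃ j : ℕ, n = -((r : ℤ) + 1 + j) := ⟨(-n - (r + 1)).toNat, by omega⟩
    rw [Finset.sum_eq_single r (fun i _ hi => by rw [hz i (fun h => by omega) (fun h => hi h.1), mul_zero])
      (fun h => absurd (Finset.mem_range.2 (by omega)) h)]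
    obtain ⟨e⟩ := nonempty_HH_top (n := r) (R := k) j
    rw [e.finrank_eq, finrank_forms, show -((r : ℤ) + 1 + j) + r = -((j : ℤ) + 1) by ring, Ring.choose_neg,
      show (j : ℤ) + 1 + r - 1 = ((r + j : ℕ) : ℤ) by push_cast; ring, Ring.choose_natCast, Nat.choose_symm_add,
      Units.smul_def, Int.negOnePow_def]
    push_cast
    simp [zpow_natCast]
  · rw [Finset.sum_eq_zero fun i _ => by rw [hz i (fun h => by omega) (fun h => by omega), mul_zero]]
    obtain ⟨j, hj, e⟩ : ∃ j : ℕ, j < r ∧ n + r = (j : ℤ) := ⟨(n + r).toNat, by omega, by omega⟩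
    rw [e, Ring.choose_natCast, Nat.choose_eq_zero_of_lt hj, Nat.cast_zero]

theorem subsingleton_HH_structure {q : ℕ} (hq : 0 < q) :
    Subsingleton (Coh.HH (CohB1.ProjSpace n R) (Coh.structureModule (CohB1.ProjSpace n R)) q) := by
  obtain ⟨e⟩ := GrTilde.nonempty_structureModule_iso_twist_zero (CohB1.polyGrading n R)
  haveI := subsingleton_HH (n := n) (R := R) (d := 0) (q := q) (fun h => by omega) (fun h => by omega)
  let e' : Coh.structureModule (CohB1.ProjSpace n R) ≅ Twist.twistProjSpace n R 0 := e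
  exact (Euler.hhEquiv (A := R) e' q).toEquiv.subsingleton

/-- Global functions on projective space are constants. -/
theorem isIso_toSpec_appTop : IsIso (CohB1.ProjSpace.toSpec n R).appTop := by
  let π := CohB1.ProjSpace.toSpec n R
  let X := CohB1.ProjSpace n R
  letI : Algebra R Γ(X, ⊤) := (Coh.toGlobal π).toAlgebra
  let e₀' : Coh.HH X (Coh.structureModule X) 0 ≃+ Γ(X, ⊤) :=
    Sheaf.H.equiv₀ (Coh.toAb (Coh.structureModule X)) (T := (⊤ : X.Opens)) isTerminalTop
  let e₀ : Coh.HH X (Coh.structureModule X) 0 ≃ₗ[R] Γ(X, ⊤) :=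
    e₀'.toLinearEquiv fun a x => by
      let r := Coh.toGlobal π a
      refine ((Sheaf.H.equiv₀_naturality isTerminalTop (Coh.smulAb (Coh.structureModule X) r) x).symm.trans
        ((Coh.smulAb_app _ _ (op ⊤) _).trans ?_))
      have e2 : Coh.resTop X (op ⊤) r = r := by
        show (X.ringCatSheaf.obj.map (𝟙 _)).hom _ = _
        rw [CategoryTheory.Functor.map_id]; rfl
      rw [e2]
      rfl
  obtain ⟨e⟩ := GrTilde.nonempty_structureModule_iso_twist_zero (CohB1.polyGrading n R)
  let e' : Coh.structureModule X ≅ Twist.twistProjSpace n R 0 := e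
  obtain ⟨e1⟩ := nonempty_HH_zero (n := n) (R := R) 0
  haveI : Unique {P : Fin (n + 1) → ℕ // ∑ i, P i = 0} :=
    { default := ⟨0, by simp⟩
      uniq := fun P => Subtype.ext (funext fun i => (Finset.sum_eq_zero_iff.1 P.2) i (Finset.mem_univ i)) }
  let E : Γ(X, ⊤) ≃ₗ[R] R := e₀.symm.trans ((Euler.hhEquiv (A := R) e' 0).trans (e1.trans
    ((formsEquiv 0).trans (LinearEquiv.funUnique _ R R))))
  let ρ : Γ(X, ⊤) →+* R := (Scheme.ΓSpecIso (CommRingCat.of R)).hom.hom.comp (ProjSp.sec n R).appTop.hom
  have hρ : ∀ r, ρ (algebraMap R Γ(X, ⊤) r) = r := by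
    intro r
    show (Scheme.ΓSpecIso (CommRingCat.of R)).hom ((ProjSp.sec n R).appTop (π.appTop ((Scheme.ΓSpecIso (CommRingCat.of R)).inv r))) = r
    rw [← CommRingCat.comp_apply π.appTop, ← Scheme.Hom.comp_appTop, ProjSp.sec_toSpec, Scheme.Hom.id_appTop,
      CommRingCat.id_apply, Iso.inv_hom_id_apply]
  let g := E.symm 1
  have hg : ∀ x, x = E x • g := fun x => E.injective (by simp [g])
  have hu : ρ g * E 1 = 1 := by
    have := congrArg ρ (hg 1)
    rw [map_one, Algebra.smul_def, map_mul, hρ] at this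
    rw [mul_comm]; exact this.symm
  have hbij : Function.Bijective (algebraMap R Γ(X, ⊤)) := by
    refine ⟨fun a b h => by simpa [hρ] using congrArg ρ h, fun x => ⟨E x * ρ g, E.injective ?_⟩⟩
    rw [Algebra.algebraMap_eq_smul_one, map_smul, smul_eq_mul, mul_assoc, hu, mul_one]
  rw [ConcreteCategory.isIso_iff_bijective]
  have h : (fun r => π.appTop r) = algebraMap R Γ(X, ⊤) ∘ (Scheme.ΓSpecIso (CommRingCat.of R)).hom := by
    funext r
    show π.appTop r = π.appTop ((Scheme.ΓSpecIso (CommRingCat.of R)).inv ((Scheme.ΓSpecIso (CommRingCat.of R)).hom r))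
    rw [Iso.hom_inv_id_apply]
  show Function.Bijective fun r => π.appTop r
  rw [h]
  exact hbij.comp (ConcreteCategory.bijective_of_isIso (Scheme.ΓSpecIso (CommRingCat.of R)).hom)

end GrothLib.ProjCohom
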