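import Groth.Agent.Lib.ProjCohom.Main
import Mathlib.Algebra.Homology.ShortComplex.ModuleCat
import Mathlib.Algebra.MonoidAlgebra.Module
import Mathlib.LinearAlgebra.Finsupp.Defs

/-! # The groups `H^q(P^n_R, O(d))` -/

set_option autoImplicit false
set_option backward.isDefEq.respectTransparency false
universe u

open AlgebraicGeometry CategoryTheory TopologicalSpace Opposite

noncomputable section

namespace GrothLib.ProjCohom

open GrothLib.GrTilde

/-- Homology from a map on cocycles. -/
theorem nonempty_homology_equiv {R : Type u} [CommRing R] (K : CochainComplex (ModuleCat.{u} R) ℕ) (i j k : ℕ)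
    (hi : (ComplexShape.up ℕ).prev j = i) (hk : (ComplexShape.up ℕ).next j = k)
    {N : Type u} [AddCommGroup N] [Module R N] (T : K.X j →ₗ[R] N)
    (hs : ∀ v, ∃ y, K.d j k y = 0 ∧ T y = v)
    (hker : ∀ y, K.d j k y = 0 → T y = 0 → ∃ z, K.d i j z = y) (hb : ∀ z, T (K.d i j z) = 0) :
    Nonempty (K.homology j ≃ₗ[R] N) := by
  let S := K.sc' i j k
  let T' : LinearMap.ker S.g.hom →ₗ[R] N := T.comp (LinearMap.ker S.g.hom).subtype
  have hsur : Function.Surjective T' := fun v => by
    obtain ⟨y, hy, hv⟩ := hs v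
    exact ⟨⟨y, hy⟩, hv⟩
  have hk' : LinearMap.range S.moduleCatToCycles = LinearMap.ker T' := by
    ext ⟨y, hy⟩
    constructor
    · rintro ⟨z, hz⟩
      rw [← hz]
      exact hb z
    · intro h
      obtain ⟨z, hz⟩ := hker y hy h
      exact ⟨z, Subtype.ext hz⟩
  exact ⟨((K.homologyIsoSc' i j k hi hk) ≪≫ S.moduleCatHomologyIso).toLinearEquiv.trans
    ((Submodule.quotEquivOfEq _ _ hk').trans (LinearMap.quotKerEquivOfSurjective T' hsur))⟩

variable {n : ℕ} {R : Type u} [CommRing R] {d : ℤ}

theorem exactAt_succ {p : ℕ} (h : p + 1 ≠ n ∨ -(n : ℤ) ≤ d) : (K n R d).ExactAt (p + 1) := by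
  rw [HomologicalComplex.exactAt_iff' _ p (p + 1) (p + 2) (by simp) (by simp), ShortComplex.moduleCat_exact_iff]
  intro y hy
  refine exists_primitive y hy fun b hp hN => ?_
  rcases h with h | h
  · exact absurd hp h
  · by_contra hne
    have := (good_Φ y _ b hne).1
    have := Neg_eq_univ_sum hN
    omega

theorem exactAt_zero (hn : 1 ≤ n) (hd : d < 0) : (K n R d).ExactAt 0 := by
  rw [HomologicalComplex.exactAt_iff' _ 0 0 1 (by simp) (by simp), ShortComplex.moduleCat_exact_iff]
  intro y hy
  refine ⟨0, (map_zero _).trans (Φ_injective 0 ?_)⟩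
  rw [map_zero]
  funext s
  refine AddMonoidAlgebra.ext (Finsupp.ext fun b => ?_)
  show (0 : R) = (Φ 0 y s).coeff b
  rw [cocycle_const y hy s]
  by_contra hne
  obtain ⟨h1, h2⟩ := cocycle_nonneg (Or.inl hn) y hy (Ne.symm hne)
  have := Finset.sum_nonneg (s := Finset.univ) fun i _ => h2 i
  omega

/-- Coefficients along a family of exponents. -/
def toPoly (ψ : (Fin (n + 1) →₀ ℕ) → Ex n) (hψ : Function.Injective ψ) :
    Lau n R →ₗ[R] MvPolynomial (Fin (n + 1)) R :=
  (AddMonoidAlgebra.coeffLinearEquiv R).symm.toLinearMap ∘ₗ Finsupp.lcomapDomain ψ hψ ∘ₗ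
    (AddMonoidAlgebra.coeffLinearEquiv R).toLinearMap

theorem coeff_toPoly {ψ : (Fin (n + 1) →₀ ℕ) → Ex n} (hψ : Function.Injective ψ) (x : Lau n R)
    (a : Fin (n + 1) →₀ ℕ) : MvPolynomial.coeff a (toPoly ψ hψ x) = x.coeff (ψ a) := rfl

/-- Nonnegative exponents. -/
def pos (a : Fin (n + 1) →₀ ℕ) : Ex n := fun i => (a i : ℤ)

/-- All negative exponents. -/
def neg (a : Fin (n + 1) →₀ ℕ) : Ex n := fun i => -(a i : ℤ) - 1

theorem pos_injective : Function.Injective (pos (n := n)) := fun a b h => Finsupp.ext fun i => by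
  have := congrFun h i; simp only [pos] at this; omega

theorem neg_injective : Function.Injective (neg (n := n)) := fun a b h => Finsupp.ext fun i => by
  have := congrFun h i; simp only [neg] at this; omega

theorem weight_eq_sum (a : Fin (n + 1) →₀ ℕ) : Finsupp.weight (1 : Fin (n + 1) → ℕ) a = ∑ i, a i := by
  rw [Finsupp.weight_apply, Finsupp.sum_fintype _ _ (fun _ => by simp)]
  simp

theorem Neg_neg (a : Fin (n + 1) →₀ ℕ) : Neg (neg a) = Set.univ :=
  Set.eq_univ_of_forall fun i => show neg a i < 0 by simp only [neg]; omega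

theorem exists_neg_eq {b : Ex n} (h : Neg b = Set.univ) : ∃ a, neg a = b := by
  refine ⟨Finsupp.equivFunOnFinite.symm fun i => (-(b i) - 1).toNat, funext fun i => ?_⟩
  have : b i < 0 := (h.ge (Set.mem_univ i) : i ∈ Neg b)
  simp [neg]; omega

variable (n R)

/-- Global sections of `O(d)`. -/
theorem nonempty_homology_zero (d : ℕ) :
    Nonempty ((K n R (d : ℤ)).homology 0 ≃ₗ[R] MvPolynomial.homogeneousSubmodule (Fin (n + 1)) R d) := by
  classical
  let T : (K n R (d : ℤ)).X 0 →ₗ[R] MvPolynomial.homogeneousSubmodule (Fin (n + 1)) R d :=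
    LinearMap.codRestrict _ ((toPoly pos pos_injective) ∘ₗ (LinearMap.proj (R := R) (φ := fun _ : Fin 1 → Fin (n + 1) => Lau n R) fun _ => 0) ∘ₗ Φ 0)
      fun y => by
        intro a ha
        have := (good_Φ y (fun _ => 0) (pos a) ha).1
        rw [weight_eq_sum]
        simp only [pos] at this
        exact_mod_cast this
  refine nonempty_homology_equiv (K n R (d : ℤ)) 0 0 1 (by simp) (by simp) T (fun v => ?_) (fun y hy hT => ?_) fun z => ?_
  · let c : (Fin 1 → Fin (n + 1)) → Lau n R := fun _ => toL n R v.1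
    have hco : ∀ b, (toL n R v.1).coeff b ≠ 0 → ∃ a, pos a = b ∧ MvPolynomial.coeff a v.1 ≠ 0 := by
      intro b hb
      rw [MvPolynomial.as_sum v.1, map_sum, AddMonoidAlgebra.coeff_sum] at hb
      obtain ⟨a, -, hne⟩ := Finset.exists_ne_zero_of_sum_ne_zero (by simpa using hb)
      rw [toL_monomial, AddMonoidAlgebra.coeff_single, Finsupp.single_apply] at hne
      split_ifs at hne with he
      · exact ⟨a, he, hne⟩
      · exact absurd rfl hne
    have hgood : Good (d := (d : ℤ)) c := by
      intro s b hb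
      obtain ⟨a, rfl, ha⟩ := hco b hb
      refine ⟨?_, fun i hi => absurd hi (by simp only [pos]; omega)⟩
      have := v.2 ha
      rw [weight_eq_sum] at this
      simp only [pos]
      exact_mod_cast this
    obtain ⟨y, hy⟩ := exists_Φ_eq c hgood
    refine ⟨y, Φ_injective 1 ?_, Subtype.ext (MvPolynomial.ext _ _ fun a => ?_)⟩
    · rw [Φ_d, hy, map_zero]
      funext s
      simp [D, c, Fin.sum_univ_two]
    · refine (coeff_toPoly pos_injective (Φ 0 y fun _ => 0) a).trans ?_
      rw [hy]
      exact Finsupp.mapDomain_apply (f := pos) pos_injective _ a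
  · refine ⟨0, (map_zero _).trans (Φ_injective 0 ?_)⟩
    rw [map_zero]
    funext s
    refine AddMonoidAlgebra.ext (Finsupp.ext fun b => ?_)
    show (0 : R) = (Φ 0 y s).coeff b
    rw [cocycle_const y hy s]
    by_contra hne
    obtain ⟨-, h2⟩ := cocycle_nonneg (Or.inr (Int.natCast_nonneg d)) y hy (Ne.symm hne)
    let a : Fin (n + 1) →₀ ℕ := Finsupp.equivFunOnFinite.symm fun i => (b i).toNat
    have hab : pos a = b := funext fun i => by simp [pos, a, h2 i]
    have h3 := congrArg (fun x => MvPolynomial.coeff a x.1) hT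
    refine hne ?_
    rw [← hab]
    exact (Eq.trans h3.symm rfl)
  · rw [show (K n R (d : ℤ)).d 0 0 = 0 from HomologicalComplex.shape _ _ _ (by simp)]
    simp

/-- Top cohomology of the negative twists. -/
theorem nonempty_homology_top (k : ℕ) :
    Nonempty ((K n R (-((n : ℤ) + 1 + k))).homology n ≃ₗ[R] MvPolynomial.homogeneousSubmodule (Fin (n + 1)) R k) := by
  classical
  let e : Fin (n + 1) → Fin (n + 1) := id
  let T : (K n R (-((n : ℤ) + 1 + k))).X n →ₗ[R] MvPolynomial.homogeneousSubmodule (Fin (n + 1)) R k :=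
    LinearMap.codRestrict _ ((toPoly neg neg_injective) ∘ₗ (LinearMap.proj (R := R) (φ := fun _ : Fin (n + 1) → Fin (n + 1) => Lau n R) e) ∘ₗ Φ n)
      fun y => by
        intro a ha
        have := (good_Φ y e (neg a) ha).1
        rw [weight_eq_sum]
        simp only [neg, Finset.sum_sub_distrib, Finset.sum_neg_distrib, Finset.sum_const, Finset.card_univ,
          Fintype.card_fin, nsmul_eq_mul, mul_one] at this
        push_cast at this
        have h' : ((∑ i, a i : ℕ) : ℤ) = k := by push_cast; linarith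
        exact_mod_cast h'
  have hT : ∀ y a, MvPolynomial.coeff a (T y).1 = co (Φ n y) (neg a) id := fun y a => rfl
  refine nonempty_homology_equiv (K n R (-((n : ℤ) + 1 + k))) (n - 1) n (n + 1)
    (by rcases n with _ | m <;> simp) (by simp) T (fun v => ?_) (fun y hy h0 => ?_) fun z => ?_
  · choose c hc hcD hcv using fun a : Fin (n + 1) →₀ ℕ => exists_cocycle (M := R) n (MvPolynomial.coeff a v.1)
    let C : (Fin (n + 1) → Fin (n + 1)) → Lau n R := fun s =>
      ∑ a ∈ v.1.support, AddMonoidAlgebra.single (neg a) (c a s)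
    have hC : ∀ s a, (C s).coeff (neg a) = if a ∈ v.1.support then c a s else 0 := fun s a => by
      simp [C, AddMonoidAlgebra.coeff_sum, Finsupp.single_apply, neg_injective.eq_iff]
    have hC' : ∀ s b, (C s).coeff b ≠ 0 → ∃ a ∈ v.1.support, neg a = b ∧ c a s ≠ 0 := fun s b hb => by
      rw [AddMonoidAlgebra.coeff_sum] at hb
      obtain ⟨a, ha, hne⟩ := Finset.exists_ne_zero_of_sum_ne_zero (by simpa using hb)
      rw [Finsupp.single_apply] at hne
      split_ifs at hne with he
      · exact ⟨a, ha, he, hne⟩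
      · exact absurd rfl hne
    have hgood : Good (d := -((n : ℤ) + 1 + k)) C := by
      intro s b hb
      obtain ⟨a, ha, rfl, hne⟩ := hC' s b hb
      refine ⟨?_, fun i _ => by_contra fun hi => hne (hc a s fun h => hi (h (Set.mem_univ i)))⟩
      have := v.2 (MvPolynomial.mem_support_iff.1 ha)
      rw [weight_eq_sum] at this
      simp only [neg, Finset.sum_sub_distrib, Finset.sum_neg_distrib, Finset.sum_const, Finset.card_univ,
        Fintype.card_fin, nsmul_eq_mul, mul_one]
      rw [← this]
      push_cast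
      ring
    obtain ⟨y, hy⟩ := exists_Φ_eq C hgood
    refine ⟨y, Φ_injective (n + 1) ?_, Subtype.ext (MvPolynomial.ext _ _ fun a => ?_)⟩
    · rw [Φ_d, hy, map_zero]
      funext s
      refine AddMonoidAlgebra.ext (Finsupp.ext fun b => ?_)
      show co (D C) b s = 0
      rw [co_D]
      by_cases hb : ∃ a, neg a = b
      · obtain ⟨a, rfl⟩ := hb
        rw [show co C (neg a) = fun s => if a ∈ v.1.support then c a s else 0 from funext fun s => hC s a]
        split_ifs
        · exact congrFun (hcD a) s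
        · exact congrFun D_zero s
      · rw [show co C b = 0 from funext fun s => by_contra fun h => by
          obtain ⟨a, -, ha, -⟩ := hC' s b h
          exact hb ⟨a, ha⟩]
        exact congrFun D_zero s
    · rw [hT, hy, co, hC, hcv]
      split_ifs with h
      · rfl
      · exact (MvPolynomial.notMem_support_iff.1 h).symm
  · have htop : ∀ (b : Ex n), Neg b = Set.univ → co (Φ n y) b id = 0 := by
      intro b hb
      obtain ⟨a, rfl⟩ := exists_neg_eq hb
      rw [← hT, h0]
      exact MvPolynomial.coeff_zero a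
    rcases n with _ | m
    · refine ⟨0, (map_zero _).trans (Φ_injective 0 ?_)⟩
      rw [map_zero]
      funext s
      refine AddMonoidAlgebra.ext (Finsupp.ext fun b => ?_)
      show (0 : R) = co (Φ 0 y) b s
      rw [show s = id from Subsingleton.elim (α := Fin 1 → Fin 1) _ _]
      by_contra hne
      refine hne (htop b (Set.eq_univ_of_forall fun i => ?_)).symm
      have h1 := (good_Φ y id b (Ne.symm hne)).1
      rw [Fin.sum_univ_one] at h1
      show b i < 0
      rw [show i = 0 from Subsingleton.elim (α := Fin 1) _ _]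
      omega
    · exact exists_primitive y hy fun b _ hb => htop b hb
  · rcases n with _ | m
    · rw [show (K 0 R (-(((0 : ℕ) : ℤ) + 1 + k))).d (0 - 1) 0 = 0 from HomologicalComplex.shape _ _ _ (by simp)]
      simp
    · refine Subtype.ext (MvPolynomial.ext _ _ fun a => ?_)
      rw [hT]
      show co (Φ (m + 1) ((K (m + 1) R _).d m (m + 1) z)) (neg a) id = _
      rw [Φ_d, co_D, D_id_eq_zero (m + 1) (Neg_neg a ▸ supp_co (good_Φ z) (neg a))]
      exact (MvPolynomial.coeff_zero a).symm

variable {n R}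

theorem exists_hh_equiv (d : ℤ) (q : ℕ) :
    Nonempty (Coh.HH (CohB1.ProjSpace n R) (Twist.twistProjSpace n R d) q ≃ₗ[R] (K n R d).homology q) := by
  have hU : iSup (U n R) = ⊤ := by
    rw [← Ample.ProjMap.iSup_basicOpen_X n R]
    exact le_antisymm (iSup_le fun i => le_iSup_of_le i.down le_rfl) (iSup_le fun i => le_iSup_of_le (ULift.up i) le_rfl)
  have haff : ∀ (p : ℕ) (a : Fin (p + 1) → ULift.{u} (Fin (n + 1))), IsAffineOpen (⨅ k, U n R (a k)) := by
    intro p a
    have h := W_up (R := R) fun k => (a k).down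
    rw [BCCoh.W, Cech.obj_eq_iInf] at h
    rw [show (⨅ k, U n R (a k)) = Dt R fun k => (a k).down from h]
    exact Proj.isAffineOpen_basicOpen _ _ (mon_mem _) (Nat.succ_pos p)
  obtain ⟨e, he, -⟩ := BCCoh.exists_linearEquiv (CohB1.ProjSpace.toSpec n R) (U n R) hU haff q
  have hq : (Twist.twistProjSpace n R d).IsQuasicoherent := GrTilde.isQuasicoherent_twist _ d
  exact ⟨(e _ hq).toLinearEquiv (he _ hq)⟩

theorem subsingleton_homology {q : ℕ} (h : (K n R d).ExactAt q) : Subsingleton ((K n R d).homology q) :=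
  ModuleCat.subsingleton_of_isZero ((HomologicalComplex.exactAt_iff_isZero_homology _ _).1 h)

theorem subsingleton_HH {q : ℕ} (h₀ : ¬ (q = 0 ∧ 0 ≤ d)) (hn : ¬ (q = n ∧ d ≤ -((n : ℤ) + 1))) :
    Subsingleton (Coh.HH (CohB1.ProjSpace n R) (Twist.twistProjSpace n R d) q) := by
  obtain ⟨e⟩ := exists_hh_equiv (n := n) (R := R) d q
  have : Subsingleton ((K n R d).homology q) := by
    rcases q with _ | p
    · exact subsingleton_homology (exactAt_zero (by omega) (by omega))
    · exact subsingleton_homology (exactAt_succ (by omega))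
  exact e.toEquiv.subsingleton

theorem nonempty_HH_zero (d : ℕ) :
    Nonempty (Coh.HH (CohB1.ProjSpace n R) (Twist.twistProjSpace n R (d : ℤ)) 0 ≃ₗ[R]
      MvPolynomial.homogeneousSubmodule (Fin (n + 1)) R d) := by
  obtain ⟨e⟩ := exists_hh_equiv (n := n) (R := R) (d : ℤ) 0
  obtain ⟨e'⟩ := nonempty_homology_zero n R d
  exact ⟨e.trans e'⟩

theorem nonempty_HH_top (k : ℕ) :
    Nonempty (Coh.HH (CohB1.ProjSpace n R) (Twist.twistProjSpace n R (-((n : ℤ) + 1 + k))) n ≃ₗ[R]
      MvPolynomial.homogeneousSubmodule (Fin (n + 1)) R k) := by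
  obtain ⟨e⟩ := exists_hh_equiv (n := n) (R := R) (-((n : ℤ) + 1 + k)) n
  obtain ⟨e'⟩ := nonempty_homology_top n R k
  exact ⟨e.trans e'⟩

end GrothLib.ProjCohom
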