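import Groth.Agent.Lib.ProjPic26.Relative
import Groth.Agent.Lib.Ample.Frame
import Groth.Agent.Lib.ProjCohom.Results
import Groth.Agent.Lib.Cohom.Compare
import Groth.Agent.Lib.Cohom.UniformVanish

/-! # Twists on relative projective space over any base -/

universe u

set_option backward.isDefEq.respectTransparency false
set_option linter.style.haveILetI false
set_option maxHeartbeats 400000

open AlgebraicGeometry CategoryTheory CategoryTheory.Limits TopologicalSpace Opposite MvPolynomial
open GrothLib.Ample (res)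
open GrothLib.Ample.ProjMap
open GrothLib.InvExt (mres)

noncomputable section

namespace GrothLib.ProjCohom

open GrothLib.ProjPic26

/-- The pullback of `O(1)` along the change of coefficients, for any ring. -/
theorem nonempty_chi_one (n : ℕ) (R : Type u) [CommRing R] :
    Nonempty ((Scheme.Modules.pullback (chi n R)).obj (Twist.twistProjSpace n (ULift.{u} ℤ) 1) ≅
      Twist.twistProjSpace n R 1) := by
  let P := pcoc n (ULift.{u} ℤ)
  obtain ⟨φ⟩ := P.nonempty_pullback_iso (chi n R) (Ample.ProjMap.pcocIso n (ULift.{u} ℤ))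
  let c := P.comap (chi n R)
  let Dχ := dataOfMorphism (𝟙 (CohB1.ProjSpace n R))
    (specULiftZIsTerminal.from _ : CohB1.ProjSpace n R ⟶ Spec (CommRingCat.of (ULift.{u} ℤ)))
  have hD : ∀ i : ULift.{u} (Fin (n + 1)), c.D i = (pcoc n R).D i := fun i => Dχ.map_preimage i.down
  have hG : ∀ (i j : ULift.{u} (Fin (n + 1))) (W : (CohB1.ProjSpace n R).Opens) (hi : W ≤ c.D i) (hj : W ≤ c.D j),
      c.G i j hi hj = (pcoc n R).G i j (hi.trans (hD i).le) (hj.trans (hD j).le) := by
    intro i j W hi hj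
    refine Eq.trans ?_ (g_pcoc i j (hi.trans (hD i).le) (hj.trans (hD j).le)).symm
    have h := P.appLE_G (j := chi n R) i j (V := P.D i ⊓ P.D j) inf_le_left inf_le_right
      (W := W) (le_inf hi hj)
    refine h.symm.trans ?_
    rw [g_pcoc]
    refine (GrothLib.Ample.appLE_res (chi n R) inf_le_left (le_inf hi hj) _).trans ?_
    refine (Dχ.map_appLE_ratio i.down j.down (hi.trans (hD i).le) hi).trans ?_
    refine congrArg (res _) ?_
    show (Scheme.Hom.appLE (𝟙 (CohB1.ProjSpace n R)) _ _ _).hom _ = _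
    simp [Scheme.Hom.appLE]
    rfl
  let m : ∀ i : c.ι, Γ((pcoc n R).twist 1, c.D i) := fun i => (pcoc n R).base 1 i (hD i).le
  have hm : c.IsFamily 1 m := by
    intro i j W hi hj
    refine ((pcoc n R).sectRes_base 1 j (hD j).le hj).trans
      (((pcoc n R).base_eq_smul_base 1 i j (hi.trans (hD i).le) (hj.trans (hD j).le)).trans ?_)
    rw [← hG i j W hi hj, show mres ((pcoc n R).twist 1) hi (m i) = (pcoc n R).base 1 i (hi.trans (hD i).le) from
      (pcoc n R).sectRes_base 1 i (hD i).le hi]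
  haveI := c.isIso_homOfFamily hm fun i => (pcoc n R).isGen_base 1 i (hD i).le
  exact ⟨φ ≪≫ asIso (c.homOfFamily hm) ≪≫ (Ample.ProjMap.pcocIso n R).symm⟩

/-- The pullback of `O(d)` along the change of coefficients. -/
theorem pull_chi_tw' (n : ℕ) (R : Type u) [CommRing R] (d : ℤ) :
    Cube.pull (chi n R) (tw n (ULift.{u} ℤ) d) = tw n R d := by
  have h1 : Cube.pull (chi n R) (tw n (ULift.{u} ℤ) 1) = tw n R 1 := by
    rw [tw, tw, ← Cube.clsMod_pullback, Cube.clsMod_eq_iff]
    exact nonempty_chi_one n R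
  rw [tw_eq_zpow, map_zpow, h1, ← tw_eq_zpow]

/-- The pullback of `O(d)` along a point of the base. -/
theorem nonempty_pullback_twistOver (n : ℕ) (S : Scheme.{u}) {R : Type u} [CommRing R] (d : ℤ)
    {ω : CohB1.ProjSpace n R ⟶ CohB1.ProjSpaceOver n S} (hω : ω ≫ pr n S = chi n R) :
    Nonempty ((Scheme.Modules.pullback ω).obj (Twist.twistOver n S d) ≅ Twist.twistProjSpace n R d) := by
  refine (Cube.clsMod_eq_iff (Ample.isInvertible_pullback ω (isInvertible_twistOver n S d))
    (isInvertible_twistProjSpace n R d)).1 ?_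
  rw [Cube.clsMod_pullback ω (isInvertible_twistOver n S d), clsMod_twistOver, Cube.pull_comp, hω]
  exact pull_chi_tw' n R d

/-- Higher direct images of the twists on relative projective space vanish in the middle. -/
theorem isZero_RpushAb_twistOver (Y : Scheme.{u}) (r i : ℕ) (d : ℤ)
    (h : ¬ ((i = 0 ∧ 0 ≤ d) ∨ (i = r ∧ d ≤ -((r : ℤ) + 1)))) :
    IsZero ((Coh.RpushAb (CohB1.ProjSpaceOver.toBase r Y) i).obj (Coh.toAb (Twist.twistOver r Y d))) := by
  refine Cohom.isZero_RpushAb_of_basis (f := CohB1.ProjSpaceOver.toBase r Y) (Coh.toAb (Twist.twistOver r Y d)) i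
    Y.isBasis_affineOpens fun V hV => ?_
  obtain ⟨ω, hω1, hω⟩ := exists_isPullback_point (n := r) Y (IsAffineOpen.fromSpec hV)
  haveI : IsOpenImmersion ω := MorphismProperty.of_isPullback (P := @IsOpenImmersion) hω.flip inferInstance
  have hr : ω ''ᵁ ⊤ = CohB1.ProjSpaceOver.toBase r Y ⁻¹ᵁ V := by
    have h2 := IsOpenImmersion.image_preimage_eq_preimage_image_of_isPullback hω.flip ⊤
    rw [Scheme.Hom.preimage_top, Scheme.Hom.image_top_eq_opensRange (IsAffineOpen.fromSpec hV),
      IsAffineOpen.opensRange_fromSpec hV] at h2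
    exact h2
  obtain ⟨φ⟩ := nonempty_pullback_twistOver r Y d hω1
  have h1 : Subsingleton (Coh.HH (CohB1.ProjSpace r Γ(Y, V)) ((Twist.twistOver r Y d).restrict ω) i) :=
    CMReg.subsingleton_of_iso (φ.symm ≪≫ ((Scheme.Modules.restrictFunctorIsoPullback ω).app _).symm)
      (subsingleton_HH (n := r) (R := Γ(Y, V)) (d := d) (fun h0 => h (Or.inl h0)) (fun h0 => h (Or.inr h0)))
  obtain ⟨e⟩ := Cohom.nonempty_ext_image_equiv ω (Twist.twistOver r Y d) ⊤ i
  rw [hr] at e
  exact (e.trans (Cohom.HEquivTop _ i).symm).toEquiv.subsingleton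

end GrothLib.ProjCohom
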