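import Groth.Agent.Lib.GrTilde.Sections
import Groth.Agent.Lib.VA.Vals
import Groth.Prelude.Def_CohB1
import Groth.Prelude.Def_Twist2
import Groth.Agent.Lib.BCCoh.CechA
import Mathlib.RingTheory.MvPolynomial.Homogeneous
import Mathlib.Algebra.MonoidAlgebra.MapDomain

/-! # Sections of `O(d)` on intersections of the standard charts are Laurent polynomials -/

set_option autoImplicit false
set_option backward.isDefEq.respectTransparency false
universe u

open AlgebraicGeometry CategoryTheory TopologicalSpace Opposite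

noncomputable section

namespace GrothLib.ProjCohom

open GrothLib.GrTilde GrothLib.Ample.ProjTwist

variable (n : ℕ) (R : Type u) [CommRing R]

/-- Exponents of Laurent monomials. -/
abbrev Ex : Type := Fin (n + 1) → ℤ

/-- Laurent polynomials. -/
abbrev Lau : Type u := AddMonoidAlgebra R (Ex n)

/-- Polynomials as Laurent polynomials. -/
def toL : MvPolynomial (Fin (n + 1)) R →+* Lau n R :=
  AddMonoidAlgebra.mapDomainRingHom R
    ({ toFun := fun a i => (a i : ℤ)
       map_zero' := funext fun _ => by simp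
       map_add' := fun a b => funext fun i => by simp } : (Fin (n + 1) →₀ ℕ) →+ Ex n)

variable {n R}

theorem toL_monomial (a : Fin (n + 1) →₀ ℕ) (r : R) :
    toL n R (MvPolynomial.monomial a r) = AddMonoidAlgebra.single (fun i => (a i : ℤ)) r :=
  AddMonoidAlgebra.mapDomain_single

theorem toL_injective : Function.Injective (toL n R) :=
  AddMonoidAlgebra.mapDomain_injective fun a b h => Finsupp.ext fun i => Int.ofNat.inj (congrFun h i)

variable (n R) in
/-- A Laurent monomial. -/
def mono (a : Ex n) : Lau n R := AddMonoidAlgebra.single a 1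

theorem mono_mul (a b : Ex n) : mono n R a * mono n R b = mono n R (a + b) := by
  simp [mono, AddMonoidAlgebra.single_mul_single]

theorem mono_zero : mono n R 0 = 1 := rfl

theorem mono_pow (a : Ex n) : ∀ k : ℕ, mono n R a ^ k = mono n R ((k : ℤ) • a) := by
  intro k
  induction k with
  | zero => simp [mono_zero]
  | succ k ih => rw [pow_succ, ih, mono_mul]; congr 1; simp [add_smul]

theorem toL_C (r : R) : toL n R (MvPolynomial.C r) = algebraMap R (Lau n R) r := by
  rw [MvPolynomial.C_apply, toL_monomial]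
  simp [Pi.zero_def]

theorem toL_X (i : Fin (n + 1)) : toL n R (MvPolynomial.X i) = mono n R (Pi.single i 1) := by
  rw [MvPolynomial.X, toL_monomial]
  congr 1
  funext j
  rcases eq_or_ne j i with rfl | h
  · simp
  · simp [h, h.symm]

/-- Multiplicities of the vertices in a tuple. -/
def cnt {p : ℕ} (t : Fin p → Fin (n + 1)) : Ex n := ∑ k, Pi.single (t k) 1

theorem cnt_nonneg {p : ℕ} (t : Fin p → Fin (n + 1)) (i : Fin (n + 1)) : 0 ≤ cnt t i := by
  rw [cnt, Finset.sum_apply]
  refine Finset.sum_nonneg fun k _ => ?_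
  rcases eq_or_ne i (t k) with h | h
  · subst h; simp
  · simp [h]

theorem cnt_pos_iff {p : ℕ} (t : Fin p → Fin (n + 1)) (i : Fin (n + 1)) : 0 < cnt t i ↔ i ∈ Set.range t := by
  rw [cnt, Finset.sum_apply]
  constructor
  · intro h
    by_contra hn
    rw [Finset.sum_eq_zero fun k _ => Pi.single_eq_of_ne (fun e : i = t k => hn ⟨k, e.symm⟩) _] at h
    exact lt_irrefl _ h
  · rintro ⟨k, rfl⟩
    refine lt_of_lt_of_le (show (0 : ℤ) < (Pi.single (t k) 1 : Ex n) (t k) by simp) ?_
    exact Finset.single_le_sum (f := fun x => (Pi.single (t x) (1 : ℤ) : Ex n) (t k)) (fun x _ => by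
      rcases eq_or_ne (t k) (t x) with h | h
      · simp [h]
      · simp [h]) (Finset.mem_univ k)

theorem sum_cnt {p : ℕ} (t : Fin p → Fin (n + 1)) : ∑ i, cnt t i = p := by
  simp only [cnt, Finset.sum_apply]
  rw [Finset.sum_comm]
  simp

variable (R) in
/-- The monomial of a tuple. -/
def mon {p : ℕ} (t : Fin p → Fin (n + 1)) : MvPolynomial (Fin (n + 1)) R := ∏ k, MvPolynomial.X (t k)

theorem mon_mem {p : ℕ} (t : Fin p → Fin (n + 1)) : mon R t ∈ CohB1.polyGrading n R p := by
  have := MvPolynomial.IsHomogeneous.prod (Finset.univ : Finset (Fin p)) (fun k => (MvPolynomial.X (t k) : MvPolynomial (Fin (n + 1)) R))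
    (fun _ => 1) fun k _ => MvPolynomial.isHomogeneous_X _ _
  simpa [mon] using this

theorem toL_mon {p : ℕ} (t : Fin p → Fin (n + 1)) : toL n R (mon R t) = mono n R (cnt t) := by
  rw [mon, map_prod, cnt]
  simp only [toL_X]
  refine Finset.induction_on (Finset.univ : Finset (Fin p)) ?_ fun a s ha ih => ?_
  · simp [mono_zero]
  · rw [Finset.prod_insert ha, ih, mono_mul, Finset.sum_insert ha]

theorem mon_pow_mul_eq_zero {p : ℕ} (t : Fin p → Fin (n + 1)) {N : ℕ} {a : MvPolynomial (Fin (n + 1)) R}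
    (h : mon R t ^ N * a = 0) : toL n R a = 0 := by
  have h' := congrArg (toL n R) h
  rw [map_mul, map_pow, map_zero, toL_mon, mono_pow] at h'
  have h'' := congrArg (mono n R (-((N : ℤ) • cnt t)) * ·) h'
  simp only [← mul_assoc, mono_mul, neg_add_cancel, mono_zero, one_mul, mul_zero] at h''
  exact h''

section Value

variable (R) (d : ℤ) {p : ℕ} (t : Fin (p + 1) → Fin (n + 1))

/-- The open of a tuple. -/
def Dt : (Proj (CohB1.polyGrading n R)).Opens := Proj.basicOpen _ (mon R t)

variable {R}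

/-- Sections of `O(d)`. -/
abbrev Sec (V : (Proj (CohB1.polyGrading n R)).Opens) : Type u :=
  Γ(_root_.GrTilde.tilde (CohB1.polyGrading n R) (CohB1.polyGrading n R) d, V)

/-- `m = a / h ^ k` on the open of the tuple. -/
def IsRep (m : Sec d (Dt R t)) (k : ℕ) (q : ℕ) (a : MvPolynomial (Fin (n + 1)) R) : Prop :=
  ((q : ℤ) = (k * (p + 1) : ℕ) + d ∨ a = 0) ∧ a ∈ CohB1.polyGrading n R q ∧
    ∀ y : Dt R t, evM y m = LocalizedModule.mk a
      (⟨mon R t ^ k, fun hm => y.2 (y.1.isPrime.mem_of_pow_mem k hm)⟩ :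
        y.1.asHomogeneousIdeal.toIdeal.primeCompl)

/-- The Laurent polynomial of a fraction. -/
def repVal (k : ℕ) (a : MvPolynomial (Fin (n + 1)) R) : Lau n R := toL n R a * mono n R (-((k : ℤ) • cnt t))

theorem IsRep.unique {m : Sec d (Dt R t)} {k q k' q' : ℕ} {a a' : MvPolynomial (Fin (n + 1)) R}
    (h : IsRep d t m k q a) (h' : IsRep d t m k' q' a') : repVal t k a = repVal t k' a' := by
  have hh := mon_mem (R := R) t
  have hk := fun j : ℕ => (show mon R t ^ j ∈ CohB1.polyGrading n R (j * (p + 1)) by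
    simpa [smul_eq_mul] using SetLike.pow_mem_graded j hh)
  obtain ⟨N, hN⟩ := exists_pow_smul_eq (CohB1.polyGrading n R) hh (Nat.succ_pos p) (n := d) h.2.1 h'.2.1
    (hk k) (hk k') h.1 h'.1 (fun y hy => by
      obtain ⟨⟨u, hu⟩, hu'⟩ := LocalizedModule.mk_eq.mp ((h.2.2 ⟨y, hy⟩).symm.trans (h'.2.2 ⟨y, hy⟩))
      exact ⟨u, hu, hu'⟩)
  simp only [smul_eq_mul] at hN
  have h0 : toL n R (mon R t ^ k' * a - mon R t ^ k * a') = 0 :=
    mon_pow_mul_eq_zero t (N := N) (by rw [mul_sub, hN, sub_self])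
  rw [map_sub, sub_eq_zero, map_mul, map_mul, map_pow, map_pow, toL_mon, mono_pow, mono_pow] at h0
  have := congrArg (mono n R (-((k : ℤ) • cnt t) + -((k' : ℤ) • cnt t)) * ·) h0
  simp only [← mul_assoc, mono_mul] at this
  rw [repVal, repVal, mul_comm, mul_comm (toL n R a')]
  rw [show -((k : ℤ) • cnt t) + -((k' : ℤ) • cnt t) + (k' : ℤ) • cnt t = -((k : ℤ) • cnt t) by abel,
    show -((k : ℤ) • cnt t) + -((k' : ℤ) • cnt t) + (k : ℤ) • cnt t = -((k' : ℤ) • cnt t) by abel] at this
  exact this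

theorem exists_isRep (m : Sec d (Dt R t)) : ∃ k q a, IsRep d t m k q a := by
  obtain ⟨k, -, q, a, hq, ha, hy⟩ := exists_frac (CohB1.polyGrading n R) (mon_mem (R := R) t) (Nat.succ_pos p) m
  exact ⟨k, q, a, Or.inl hq, ha, hy⟩

/-- The Laurent polynomial of a section. -/
def val (m : Sec d (Dt R t)) : Lau n R :=
  repVal t (exists_isRep d t m).choose (exists_isRep d t m).choose_spec.choose_spec.choose

theorem IsRep.val_eq {m : Sec d (Dt R t)} {k q : ℕ} {a : MvPolynomial (Fin (n + 1)) R}
    (h : IsRep d t m k q a) : val d t m = repVal t k a :=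
  IsRep.unique d t (exists_isRep d t m).choose_spec.choose_spec.choose_spec h

theorem IsRep.lift {m : Sec d (Dt R t)} {k q : ℕ} {a : MvPolynomial (Fin (n + 1)) R}
    (h : IsRep d t m k q a) (j : ℕ) : IsRep d t m (k + j) (q + j * (p + 1)) (a * mon R t ^ j) := by
  refine ⟨h.1.imp (fun e => by push_cast at e ⊢; rw [e]; ring) (fun e => by rw [e, zero_mul]), ?_, fun y => ?_⟩
  · exact SetLike.mul_mem_graded h.2.1 (by simpa [smul_eq_mul] using SetLike.pow_mem_graded j (mon_mem (R := R) t))
  · refine (h.2.2 y).trans (LocalizedModule.mk_eq.mpr ⟨1, ?_⟩)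
    simp only [one_smul, Submonoid.smul_def, smul_eq_mul, pow_add]
    ring

theorem val_add (m m' : Sec d (Dt R t)) : val d t (m + m') = val d t m + val d t m' := by
  obtain ⟨k, q, a, h⟩ := exists_isRep d t m
  obtain ⟨k', q', a', h'⟩ := exists_isRep d t m'
  have h1 := IsRep.lift d t h k'
  have h1' := IsRep.lift d t h' k
  rw [add_comm k' k] at h1'
  have hval : ∀ y : Dt R t, evM y (m + m') =
      LocalizedModule.mk (a * mon R t ^ k' + a' * mon R t ^ k)
        (⟨mon R t ^ (k + k'), fun hm => y.2 (y.1.isPrime.mem_of_pow_mem _ hm)⟩ :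
          y.1.asHomogeneousIdeal.toIdeal.primeCompl) := fun y => by
    rw [evM_add, h1.2.2 y, h1'.2.2 y, LocalizedModule.mk_add_mk]
    refine LocalizedModule.mk_eq.mpr ⟨1, ?_⟩
    simp only [one_smul, Submonoid.smul_def, smul_eq_mul, Submonoid.coe_mul]
    ring
  have h2 : ∃ q₂, IsRep d t (m + m') (k + k') q₂ (a * mon R t ^ k' + a' * mon R t ^ k) := by
    rcases h1.1 with e | e
    · rcases h1'.1 with e' | e'
      · refine ⟨_, Or.inl e, Submodule.add_mem _ h1.2.1 ?_, hval⟩
        rw [show q + k' * (p + 1) = q' + k * (p + 1) by exact_mod_cast e.trans e'.symm]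
        exact h1'.2.1
      · exact ⟨_, Or.inl e, Submodule.add_mem _ h1.2.1 (by rw [e']; exact zero_mem _), hval⟩
    · refine ⟨_, h1'.1.imp id (fun e' => by rw [e, e', add_zero]), ?_, hval⟩
      rw [e, zero_add]; exact h1'.2.1
  obtain ⟨q₂, h2⟩ := h2
  rw [h2.val_eq, h1.val_eq, h1'.val_eq, repVal, repVal, repVal, map_add, add_mul]

/-- `R → Γ(V, O)`. -/
abbrev cst (V : (Proj (CohB1.polyGrading n R)).Opens) : R →+* Γ(Proj (CohB1.polyGrading n R), V) :=
  BCCoh.psiR (Proj.toSpecZero (CohB1.polyGrading n R) ≫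
    Spec.map (CommRingCat.ofHom (algebraMap R (CohB1.polyGrading n R 0)))) V

theorem ev_cst (V : (Proj (CohB1.polyGrading n R)).Opens) (r : R) (y : V) :
    ev y (cst V r) = Localization.mk (MvPolynomial.C r) 1 := by
  have h := VA.constSec_val (CohB1.polyGrading n R) (algebraMap R (CohB1.polyGrading n R 0) r) y.1
  refine Eq.trans ?_ (h.trans ?_)
  · refine congrArg (fun s => ev (⟨y.1, trivial⟩ : (⊤ : (Proj (CohB1.polyGrading n R)).Opens)) s) ?_
    show ((Proj.toSpecZero (CohB1.polyGrading n R) ≫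
      Spec.map (CommRingCat.ofHom (algebraMap R (CohB1.polyGrading n R 0)))).appTop)
        ((Scheme.ΓSpecIso (CommRingCat.of R)).inv r) = (Proj.toSpecZero _).appTop _
    rw [Scheme.Hom.comp_appTop, CommRingCat.comp_apply, ← CommRingCat.comp_apply (Scheme.ΓSpecIso (CommRingCat.of R)).inv,
      ← Scheme.ΓSpecIso_inv_naturality]
    rfl
  · rw [← Localization.mk_one_eq_algebraMap]
    rfl

theorem val_smul (r : R) (m : Sec d (Dt R t)) : val d t (cst (Dt R t) r • m) = r • val d t m := by
  obtain ⟨k, q, a, h⟩ := exists_isRep d t m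
  have h2 : IsRep d t (cst (Dt R t) r • m) k q (MvPolynomial.C r * a) := by
    refine ⟨h.1.imp id (fun e => by rw [e, mul_zero]), ?_, fun y => ?_⟩
    · exact MvPolynomial.IsHomogeneous.C_mul h.2.1 r
    · rw [evM_smul, ev_cst, h.2.2 y, LocalizedModule.mk_smul_mk, one_mul]
      rfl
  rw [h2.val_eq, h.val_eq, repVal, repVal, map_mul, toL_C, mul_assoc]
  exact (Algebra.smul_def r _).symm

/-- Exponents allowed on the open of a tuple. -/
def Allowed (a : Ex n) : Prop := ∑ i, a i = d ∧ ∀ i, a i < 0 → i ∈ Set.range t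

theorem allowed_of_val (m : Sec d (Dt R t)) {b : Ex n} (hb : (val d t m).coeff b ≠ 0) : Allowed d t b := by
  obtain ⟨k, q, a, h⟩ := exists_isRep d t m
  rw [h.val_eq, repVal, MvPolynomial.as_sum a, map_sum, Finset.sum_mul, AddMonoidAlgebra.coeff_sum] at hb
  obtain ⟨s, hs, hne⟩ := Finset.exists_ne_zero_of_sum_ne_zero (by simpa using hb)
  rw [toL_monomial, mono, AddMonoidAlgebra.single_mul_single, AddMonoidAlgebra.coeff_single,
    Finsupp.single_apply] at hne
  split_ifs at hne with he
  · subst he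
    have hq : (q : ℤ) = (k * (p + 1) : ℕ) + d := h.1.resolve_right fun e => by simp [e] at hs
    have hdeg : ∑ i, (s i : ℤ) = q := by
      have := h.2.1 (MvPolynomial.mem_support_iff.1 hs)
      rw [← this, Finsupp.weight_apply, Finsupp.sum_fintype _ _ (fun _ => by simp)]
      simp
    refine ⟨?_, fun i hi => (cnt_pos_iff t i).1 ?_⟩
    · simp only [Pi.add_apply, Pi.neg_apply, Pi.smul_apply, Pi.mul_apply, Pi.natCast_apply, Pi.intCast_apply, Int.cast_natCast, Nat.cast_id, smul_eq_mul, Finset.sum_add_distrib,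
        Finset.sum_neg_distrib, ← Finset.mul_sum, sum_cnt, hdeg, hq]
      push_cast; ring
    · simp only [Pi.add_apply, Pi.neg_apply, Pi.smul_apply, Pi.mul_apply, Pi.natCast_apply, Pi.intCast_apply, Int.cast_natCast, Nat.cast_id, smul_eq_mul] at hi
      rcases (cnt_nonneg t i).lt_or_eq with h0 | h0
      · exact h0
      · rw [← h0] at hi; simp at hi; omega
  · exact absurd rfl hne

theorem eq_zero_of_val (m : Sec d (Dt R t)) (h : val d t m = 0) : m = 0 := by
  obtain ⟨k, q, a, hr⟩ := exists_isRep d t m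
  rw [hr.val_eq, repVal] at h
  have ha : a = 0 := by
    have := congrArg (· * mono n R ((k : ℤ) • cnt t)) h
    simp only [mul_assoc, mono_mul, neg_add_cancel, mono_zero, mul_one, zero_mul] at this
    exact toL_injective (this.trans (map_zero _).symm)
  refine evM_ext fun y => ?_
  rw [hr.2.2 y, ha, LocalizedModule.zero_mk, evM_zero]

theorem exists_val_eq_mono {b : Ex n} (hb : Allowed d t b) : ∃ m : Sec d (Dt R t), val d t m = mono n R b := by
  let k : ℕ := Finset.univ.sup fun i => (-(b i)).toNat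
  let a : Fin (n + 1) →₀ ℕ := Finsupp.equivFunOnFinite.symm fun i => (b i + k * cnt t i).toNat
  have hnn : ∀ i, 0 ≤ b i + k * cnt t i := by
    intro i
    by_cases h : 0 ≤ b i
    · have := cnt_nonneg t i; positivity
    · have h1 : 0 < cnt t i := (cnt_pos_iff t i).2 (hb.2 i (by omega))
      have h2 : (-(b i)).toNat ≤ k := Finset.le_sup (f := fun i => (-(b i)).toNat) (Finset.mem_univ i)
      nlinarith [Int.self_le_toNat (-(b i))]
  have ha : ∀ i, (a i : ℤ) = b i + k * cnt t i := fun i => by simp [a, hnn i]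
  have hdeg : ((a.sum fun _ e => e : ℕ) : ℤ) = (k * (p + 1) : ℕ) + d := by
    rw [Finsupp.sum_fintype _ _ (fun _ => rfl), Nat.cast_sum]
    simp only [ha, Finset.sum_add_distrib, ← Finset.mul_sum, sum_cnt, hb.1]
    push_cast; ring
  have hh := mon_mem (R := R) t
  have hA : (MvPolynomial.monomial a (1 : R)) ∈ CohB1.polyGrading n R (a.sum fun _ e => e) :=
    MvPolynomial.isHomogeneous_monomial 1 rfl
  have nin : ∀ y : Dt R t, mon R t ^ k ∉ y.1.asHomogeneousIdeal :=
    fun y hm => y.2 (y.1.isPrime.mem_of_pow_mem k hm)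
  refine ⟨fracM (MvPolynomial.monomial a (1 : R)) (mon R t ^ k) hA
    (show mon R t ^ k ∈ CohB1.polyGrading n R (k * (p + 1)) by simpa [smul_eq_mul] using SetLike.pow_mem_graded k hh)
    nin (Or.inl hdeg), ?_⟩
  have h2 : IsRep d t (fracM (MvPolynomial.monomial a (1 : R)) (mon R t ^ k) hA
      (show mon R t ^ k ∈ CohB1.polyGrading n R (k * (p + 1)) by simpa [smul_eq_mul] using SetLike.pow_mem_graded k hh)
      nin (Or.inl hdeg)) k (a.sum fun _ e => e) (MvPolynomial.monomial a (1 : R)) :=
    ⟨Or.inl hdeg, hA, fun _ => rfl⟩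
  rw [h2.val_eq, repVal, toL_monomial, show AddMonoidAlgebra.single (fun i => (a i : ℤ)) (1 : R) = mono n R _ from rfl,
    mono_mul]
  congr 1
  funext i
  simp [ha]

theorem val_res {q : ℕ} (t' : Fin (q + 1) → Fin (n + 1)) (hle : Dt R t' ≤ Dt R t) (hsub : Set.range t ⊆ Set.range t')
    (m : Sec d (Dt R t)) :
    val d t' (InvExt.mres (_root_.GrTilde.tilde (CohB1.polyGrading n R) (CohB1.polyGrading n R) d) hle m) = val d t m := by
  obtain ⟨k, e, a, h⟩ := exists_isRep d t m
  classical
  choose j hj using fun x : Fin (p + 1) => hsub ⟨x, rfl⟩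
  let w : MvPolynomial (Fin (n + 1)) R := ∏ x, ∏ l ∈ Finset.univ.erase (j x), MvPolynomial.X (t' l)
  have hw : mon R t * w = mon R t' ^ (p + 1) := by
    rw [mon, ← Finset.prod_mul_distrib]
    rw [Finset.prod_congr rfl fun x _ => (show MvPolynomial.X (t x) * ∏ l ∈ Finset.univ.erase (j x),
      MvPolynomial.X (t' l) = mon R t' from by
        rw [← hj x, mon, Finset.mul_prod_erase _ (fun l => MvPolynomial.X (t' l)) (Finset.mem_univ _)])]
    simp
  have hwm : w ∈ CohB1.polyGrading n R ((p + 1) * q) := by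
    have h1 := MvPolynomial.IsHomogeneous.prod (Finset.univ : Finset (Fin (p + 1)))
      (fun x => ∏ l ∈ Finset.univ.erase (j x), (MvPolynomial.X (t' l) : MvPolynomial (Fin (n + 1)) R))
      (fun _ => q) fun x _ => by
        have h2 := MvPolynomial.IsHomogeneous.prod (Finset.univ.erase (j x))
          (fun l => (MvPolynomial.X (t' l) : MvPolynomial (Fin (n + 1)) R)) (fun _ => 1)
          fun l _ => MvPolynomial.isHomogeneous_X _ _
        simpa using h2
    simpa using h1
  have h2 : IsRep d t' (InvExt.mres (_root_.GrTilde.tilde (CohB1.polyGrading n R) (CohB1.polyGrading n R) d) hle m)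
      (k * (p + 1)) (e + k * ((p + 1) * q)) (a * w ^ k) := by
    refine ⟨h.1.imp (fun he => by push_cast at he ⊢; rw [he]; ring) (fun he => by rw [he, zero_mul]),
      SetLike.mul_mem_graded h.2.1 (by simpa [smul_eq_mul] using SetLike.pow_mem_graded k hwm), fun y => ?_⟩
    rw [evM_mres, h.2.2 ⟨y.1, hle y.2⟩]
    refine LocalizedModule.mk_eq.mpr ⟨1, ?_⟩
    simp only [one_smul, Submonoid.smul_def, smul_eq_mul]
    rw [mul_comm k, pow_mul, ← hw, mul_pow]
    ring
  have hW : toL n R w = mono n R (((p + 1 : ℕ) : ℤ) • cnt t' + -cnt t) := by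
    have h3 := congrArg (fun z => mono n R (-cnt t) * toL n R z) hw
    simp only [map_mul, map_pow, toL_mon, mono_pow, ← mul_assoc, mono_mul, neg_add_cancel, mono_zero, one_mul] at h3
    rw [h3, add_comm]
  rw [h2.val_eq, h.val_eq, repVal, repVal, map_mul, map_pow, hW, mono_pow, mul_assoc, mono_mul]
  congr 2
  push_cast
  module

end Value

end GrothLib.ProjCohom
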