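import Groth.Agent.Lib.ProjCohom.Simplex
import Groth.Agent.Lib.ProjCohom.Laurent
import Groth.Agent.Lib.Ample.ProjMap
import Groth.Agent.Lib.GrTilde.QCoh

/-! # Cohomology of the twists on projective space over a ring -/

set_option autoImplicit false
set_option backward.isDefEq.respectTransparency false
universe u

open AlgebraicGeometry CategoryTheory TopologicalSpace Opposite

noncomputable section

namespace GrothLib.ProjCohom

open GrothLib.GrTilde GrothLib.InvExt

variable (n : ℕ) (R : Type u) [CommRing R] (d : ℤ)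

/-- The structure morphism. -/
abbrev ts : Proj (CohB1.polyGrading n R) ⟶ Spec (CommRingCat.of R) :=
  Proj.toSpecZero (CohB1.polyGrading n R) ≫
    Spec.map (CommRingCat.ofHom (algebraMap R (CohB1.polyGrading n R 0)))

/-- The twist. -/
abbrev G : (Proj (CohB1.polyGrading n R)).Modules :=
  _root_.GrTilde.tilde (CohB1.polyGrading n R) (CohB1.polyGrading n R) d

/-- The standard charts. -/
def U (i : ULift.{u} (Fin (n + 1))) : (Proj (CohB1.polyGrading n R)).Opens :=
  Proj.basicOpen (CohB1.polyGrading n R) (MvPolynomial.X i.down)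

/-- The Čech complex of `O(d)`. -/
abbrev K : CochainComplex (ModuleCat.{u} R) ℕ :=
  BCCoh.cx (ts n R) (U n R) (G n R d)

variable {n R}

/-- Lift a tuple. -/
abbrev up {p : ℕ} (s : Fin p → Fin (n + 1)) : Fin p → ULift.{u} (Fin (n + 1)) := fun k => ULift.up (s k)

theorem W_up {p : ℕ} (s : Fin (p + 1) → Fin (n + 1)) : BCCoh.W (U n R) (up s) = Dt R s := by
  apply TopologicalSpace.Opens.ext
  ext y
  rw [BCCoh.W, Cech.obj_eq_iInf]
  simp only [Opens.coe_iInf, Set.mem_iInter, SetLike.mem_coe, U, up, Dt, Proj.mem_basicOpen]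
  constructor
  · intro h hm
    rw [mon] at hm
    obtain ⟨k, -, hk⟩ := y.isPrime.prod_mem_iff.1 hm
    exact h k hk
  · intro h k hk
    refine h ?_
    rw [mon, ← Finset.mul_prod_erase _ _ (Finset.mem_univ k)]
    exact y.asHomogeneousIdeal.toIdeal.mul_mem_right _ hk

variable {d}

/-- The value of a cochain component. -/
def cval {p : ℕ} (s : Fin (p + 1) → Fin (n + 1))
    (x : BCCoh.secA (ts n R) (G n R d) (BCCoh.W (U n R) (up s))) :
    Lau n R :=
  val d s (BCCoh.resA (ts n R) (G n R d) (W_up s).ge x)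

theorem cval_add {p : ℕ} (s : Fin (p + 1) → Fin (n + 1))
    (x y : BCCoh.secA (ts n R) (G n R d) (BCCoh.W (U n R) (up s))) :
    cval s (x + y) = cval s x + cval s y := by
  rw [cval, map_add]; exact val_add d s _ _

/-- The value, linearly. -/
def cvalₗ {p : ℕ} (s : Fin (p + 1) → Fin (n + 1)) :
    BCCoh.secA (ts n R) (G n R d) (BCCoh.W (U n R) (up s)) →ₗ[R] Lau n R where
  toFun := cval s
  map_add' := cval_add s
  map_smul' r x := by
    simp only [cval, RingHom.id_apply]
    rw [map_smul]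
    exact val_smul d s r _

theorem res_res {V V' V'' : (Proj (CohB1.polyGrading n R)).Opens} (h : V' ≤ V) (h' : V'' ≤ V')
    (x : BCCoh.secA (ts n R) (G n R d) V) :
    BCCoh.resA _ _ h' (BCCoh.resA _ _ h x) = BCCoh.resA _ _ (h'.trans h) x :=
  InvExt.mres_mres (G n R d) h h' x

theorem res_self {V : (Proj (CohB1.polyGrading n R)).Opens} (h : V ≤ V)
    (x : BCCoh.secA (ts n R) (G n R d) V) :
    BCCoh.resA _ _ h x = x :=
  InvExt.mres_self (G n R d) x

/-- Cochains as families of Laurent polynomials. -/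
def Φ (p : ℕ) : (K n R d).X p →ₗ[R] ((Fin (p + 1) → Fin (n + 1)) → Lau n R) :=
  LinearMap.pi fun s => (cvalₗ s).comp (LinearMap.proj (R := R)
    (φ := fun a : Fin (p + 1) → ULift.{u} (Fin (n + 1)) =>
      BCCoh.secA (ts n R) (G n R d) (BCCoh.W (U n R) a)) (up s))

theorem Φ_apply {p : ℕ} (y : (K n R d).X p) (s : Fin (p + 1) → Fin (n + 1)) : Φ p y s = cval s (y (up s)) := rfl

theorem Φ_injective (p : ℕ) : Function.Injective (Φ (n := n) (R := R) (d := d) p) := by
  rw [injective_iff_map_eq_zero]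
  intro y hy
  funext a
  have h0 := congrFun hy fun k => (a k).down
  rw [Φ_apply] at h0
  have h1 := eq_zero_of_val d _ _ h0
  have h2 := congrArg (BCCoh.resA (ts n R) (G n R d)
    (W_up fun k => (a k).down).le) h1
  rw [res_res, res_self, map_zero] at h2
  exact h2

theorem Φ_d (p : ℕ) (y : (K n R d).X p) : Φ (p + 1) ((K n R d).d p (p + 1) y) = D (Φ p y) := by
  funext s
  rw [BCCoh.cx_d, Φ_apply]
  show cvalₗ s (BCCoh.cxd _ _ _ p y (up s)) = _
  rw [BCCoh.cxd_apply, map_sum]
  refine Finset.sum_congr rfl fun k _ => ?_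
  rw [map_zsmul]
  refine congrArg (fun z => (-1 : ℤ) ^ (k : ℕ) • z) ?_
  show val d s (BCCoh.resA _ _ _ _) = val d (s ∘ k.succAbove) (BCCoh.resA _ _ _ (y _))
  refine (congrArg (val d s) (res_res _ _ _)).trans ?_
  have hle : Dt R s ≤ Dt R (s ∘ k.succAbove) := by
    rw [← W_up, ← W_up]; exact leOfHom (Cech.proj (D := Opens (Proj (CohB1.polyGrading n R)).carrier) (U n R) (up s) k)
  refine Eq.trans (congrArg (val d s) ?_) (val_res d (s ∘ k.succAbove) s hle (Set.range_comp_subset_range _ _) _)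
  exact (res_res (W_up (s ∘ k.succAbove)).ge hle (y (up (s ∘ k.succAbove)))).symm

/-- Admissible families. -/
def Good {p : ℕ} (c : (Fin (p + 1) → Fin (n + 1)) → Lau n R) : Prop :=
  ∀ s b, (c s).coeff b ≠ 0 → Allowed d s b

theorem good_Φ {p : ℕ} (y : (K n R d).X p) : Good (d := d) (Φ p y) :=
  fun s _ hb => allowed_of_val d s _ hb

theorem exists_Φ_eq {p : ℕ} (c : (Fin (p + 1) → Fin (n + 1)) → Lau n R) (hc : Good (d := d) c) :
    ∃ y : (K n R d).X p, Φ p y = c := by
  classical
  have key : ∀ s, ∃ x, cvalₗ (d := d) s x = c s := by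
    intro s
    have hmem : ∀ b ∈ (c s).coeff.support, mono n R b ∈ LinearMap.range (cvalₗ (R := R) (d := d) s) := by
      intro b hb
      obtain ⟨m, hm⟩ := exists_val_eq_mono (R := R) d s (hc s b (Finsupp.mem_support_iff.1 hb))
      refine ⟨BCCoh.resA (ts n R) (G n R d) (W_up s).le m, ?_⟩
      show val d s (BCCoh.resA _ _ _ _) = _
      exact (congrArg (val d s) ((res_res _ _ _).trans (res_self _ _))).trans hm
    have h : c s ∈ LinearMap.range (cvalₗ (R := R) (d := d) s) := by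
      rw [← AddMonoidAlgebra.sum_coeff_single (c s)]
      refine Submodule.sum_mem _ fun b hb => ?_
      have := Submodule.smul_mem _ ((c s).coeff b) (hmem b hb)
      simpa [mono, AddMonoidAlgebra.smul_single] using this
    exact h
  choose x hx using key
  refine ⟨fun a => x fun k => (a k).down, funext fun s => ?_⟩
  exact hx s

/-- The negative places of an exponent. -/
def Neg (b : Ex n) : Set (Fin (n + 1)) := {i | b i < 0}

/-- A coefficient of a family. -/
def co {p : ℕ} (c : (Fin p → Fin (n + 1)) → Lau n R) (b : Ex n) (s : Fin p → Fin (n + 1)) : R := (c s).coeff b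

theorem co_D {p : ℕ} (c : (Fin p → Fin (n + 1)) → Lau n R) (b : Ex n) : co (D c) b = D (co c b) := by
  funext s
  simp only [co, D, AddMonoidAlgebra.coeff_sum, Finsupp.coe_finset_sum, Finset.sum_apply,
    AddMonoidAlgebra.coeff_smul, Finsupp.smul_apply]

theorem supp_co {p : ℕ} {c : (Fin (p + 1) → Fin (n + 1)) → Lau n R} (hc : Good (d := d) c) (b : Ex n) :
    Supp (Neg b) (co c b) := fun s hs => by
  by_contra h
  exact hs (hc s b h).2

theorem Neg_eq_univ_sum {b : Ex n} (h : Neg b = Set.univ) : ∑ i, b i ≤ -((n : ℤ) + 1) := by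
  calc ∑ i, b i ≤ ∑ _i : Fin (n + 1), (-1 : ℤ) := Finset.sum_le_sum fun i _ => by
        have : b i < 0 := (h.ge (Set.mem_univ i) : i ∈ Neg b)
        omega
    _ = -((n : ℤ) + 1) := by simp

theorem exists_primitive {p : ℕ} (y : (K n R d).X (p + 1)) (hy : (K n R d).d (p + 1) (p + 2) y = 0)
    (htop : ∀ b : Ex n, ∀ h : p + 1 = n, Neg b = Set.univ →
      co (Φ (p + 1) y) b (Fin.cast (congrArg Nat.succ h)) = 0) :
    ∃ z : (K n R d).X p, (K n R d).d p (p + 1) z = y := by
  classical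
  let c := Φ (p + 1) y
  have hc : Good (d := d) c := good_Φ y
  have hDc : D c = 0 := by rw [← Φ_d, hy, map_zero]
  have key : ∀ b : Ex n, ∃ ρ : (Fin (p + 1) → Fin (n + 1)) → R, Supp (Neg b) ρ ∧ D ρ = co c b := by
    intro b
    have hD : D (co c b) = 0 := by
      rw [← co_D, hDc]; funext s; simp [co]
    by_cases h : Neg b = Set.univ
    · obtain ⟨ρ, hρ, hρD, -⟩ := exists_of_supp_univ n (p + 1) (co c b) (h ▸ supp_co hc b) hD (fun e => htop b e h)
      exact ⟨ρ, h ▸ hρ, hρD⟩
    · obtain ⟨j, hj⟩ := (Set.ne_univ_iff_exists_notMem _).1 h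
      exact ⟨cone j (co c b), (supp_co hc b).cone hj, D_cone j _ hD⟩
  choose ρ hρ hρD using key
  let B : Finset (Ex n) := Finset.univ.biUnion fun s => (c s).coeff.support
  let e : (Fin (p + 1) → Fin (n + 1)) → Lau n R := fun s => ∑ b ∈ B, AddMonoidAlgebra.single b (ρ b s)
  have he : ∀ s b, (e s).coeff b = if b ∈ B then ρ b s else 0 := fun s b => by
    simp [e, AddMonoidAlgebra.coeff_sum, Finsupp.single_apply]
  have hgood : Good (d := d) e := by
    intro s b hb
    rw [he] at hb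
    obtain ⟨hB, hb⟩ : b ∈ B ∧ ρ b s ≠ 0 := by split_ifs at hb with hB <;> simp_all
    obtain ⟨s', -, hs'⟩ := Finset.mem_biUnion.1 hB
    exact ⟨(hc s' b (Finsupp.mem_support_iff.1 hs')).1, by_contra fun hh => hb (hρ b s hh)⟩
  obtain ⟨z, hz⟩ := exists_Φ_eq e hgood
  refine ⟨z, Φ_injective (p + 1) ?_⟩
  rw [Φ_d, hz]
  funext s
  refine AddMonoidAlgebra.ext (Finsupp.ext fun b => ?_)
  show co (D e) b s = co c b s
  rw [co_D]
  by_cases hB : b ∈ B
  · rw [show co e b = ρ b from funext fun s' => by simp [co, he, hB], hρD]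
  · rw [show co e b = 0 from funext fun s' => by simp [co, he, hB], D_zero]
    by_contra hh
    exact hB (Finset.mem_biUnion.2 ⟨s, Finset.mem_univ _, Finsupp.mem_support_iff.2 (Ne.symm hh)⟩)

theorem coe_nonneg_of_sum {b : Ex n} (hd : 0 ≤ d) (hs : ∑ i, b i = d) (hn : n = 0) (i : Fin (n + 1)) : 0 ≤ b i := by
  subst hn
  rw [Fin.sum_univ_one] at hs
  rw [show i = 0 from Subsingleton.elim (α := Fin 1) _ _]; omega

theorem cocycle_const (y : (K n R d).X 0) (hy : (K n R d).d 0 1 y = 0) (s : Fin 1 → Fin (n + 1)) :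
    Φ 0 y s = Φ 0 y (fun _ => 0) := by
  have h : D (Φ 0 y) = 0 := by rw [← Φ_d, hy, map_zero]
  have h2 := congrFun h (Fin.cons 0 s)
  rw [D, Fin.sum_univ_two, Pi.zero_apply] at h2
  have e0 : (Fin.cons 0 s : Fin 2 → Fin (n + 1)) ∘ (0 : Fin 2).succAbove = s := by funext k; simp
  have e1 : (Fin.cons 0 s : Fin 2 → Fin (n + 1)) ∘ (1 : Fin 2).succAbove = fun _ => 0 := by
    funext k; fin_cases k; rfl
  rw [e0, e1] at h2
  simpa [sub_eq_zero, ← sub_eq_add_neg] using h2

theorem cocycle_nonneg (h : 1 ≤ n ∨ 0 ≤ d) (y : (K n R d).X 0) (hy : (K n R d).d 0 1 y = 0) {b : Ex n}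
    (hb : (Φ 0 y (fun _ => 0)).coeff b ≠ 0) : (∑ i, b i = d) ∧ ∀ i, 0 ≤ b i := by
  have h0 := good_Φ y _ b hb
  refine ⟨h0.1, fun i => ?_⟩
  rcases h with hn | hd
  · by_contra hi
    obtain ⟨j, hj⟩ : ∃ j : Fin (n + 1), j ≠ i := by
      haveI : Nontrivial (Fin (n + 1)) := Fin.nontrivial_iff_two_le.2 (by omega)
      exact exists_ne i
    rw [← cocycle_const y hy fun _ => j] at hb
    obtain ⟨k, hk⟩ := (good_Φ y _ b hb).2 i (not_le.1 hi)
    exact hj hk
  · rcases Nat.eq_zero_or_pos n with hn | hn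
    · exact coe_nonneg_of_sum hd h0.1 hn i
    · by_contra hi
      obtain ⟨j, hj⟩ : ∃ j : Fin (n + 1), j ≠ i := by
        haveI : Nontrivial (Fin (n + 1)) := Fin.nontrivial_iff_two_le.2 (by omega)
        exact exists_ne i
      rw [← cocycle_const y hy fun _ => j] at hb
      obtain ⟨k, hk⟩ := (good_Φ y _ b hb).2 i (not_le.1 hi)
      exact hj hk

end GrothLib.ProjCohom
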