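import Mathlib.Algebra.BigOperators.Fin
import Mathlib.Data.Fin.Tuple.Basic
import Mathlib.Data.Fintype.EquivFin
import Mathlib.GroupTheory.GroupAction.Defs
import Mathlib.Algebra.Module.Basic
import Mathlib.Tactic.Abel

/-! # Tuples covering prescribed vertices -/

set_option autoImplicit false

universe u v

namespace GrothLib.ProjCohom

variable {ι : Type v} {M : Type u} [AddCommGroup M]

/-- The differential on cochains of tuples. -/
def D {p : ℕ} (c : (Fin p → ι) → M) (t : Fin (p + 1) → ι) : M :=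
  ∑ k : Fin (p + 1), (-1 : ℤ) ^ (k : ℕ) • c (t ∘ k.succAbove)

/-- Prepend a vertex. -/
def cone (j : ι) {p : ℕ} (c : (Fin (p + 1) → ι) → M) (t : Fin p → ι) : M := c (Fin.cons j t)

theorem D_cons {p : ℕ} (c : (Fin (p + 1) → ι) → M) (a : ι) (t : Fin (p + 1) → ι) :
    D c (Fin.cons a t) = c t - D (cone a c) t := by
  rw [D, Fin.sum_univ_succ]
  simp only [Fin.val_zero, pow_zero, one_smul, Fin.succAbove_zero, Fin.cons_comp_succ, D, cone,
    sub_eq_add_neg, ← Finset.sum_neg_distrib]
  congr 1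
  refine Finset.sum_congr rfl fun k _ ↦ ?_
  rw [Fin.cons_comp_succ_succAbove, Fin.val_succ, pow_succ, show k.removeNth t = t ∘ k.succAbove from rfl,
    mul_neg_one, neg_smul]

theorem D_sub {p : ℕ} (c c' : (Fin p → ι) → M) : D (c - c') = D c - D c' := by
  funext t
  simp [D, smul_sub, Finset.sum_sub_distrib]

theorem D_zero {p : ℕ} : D (0 : (Fin p → ι) → M) = 0 := by
  funext t; simp [D]

theorem D_D {p : ℕ} (c : (Fin p → ι) → M) : D (D c) = 0 := by
  induction p with
  | zero =>
    funext t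
    have h : ∀ s s' : Fin 0 → ι, c s = c s' := fun s s' ↦ congrArg c (Subsingleton.elim _ _)
    simp only [D, Fin.sum_univ_succ, Fin.sum_univ_zero, Fin.val_zero, Fin.val_succ, pow_zero]
    simp only [h _ (fun i ↦ i.elim0)]
    simp
  | succ p ih =>
    funext t
    rw [← Fin.cons_self_tail t, D_cons (D c) (t 0) (Fin.tail t)]
    have : cone (t 0) (D c) = c - D (cone (t 0) c) := funext fun s ↦ D_cons c (t 0) s
    rw [this, D_sub, ih, sub_zero, Pi.zero_apply, sub_self]

/-- The cone is a contracting homotopy. -/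
theorem D_cone {p : ℕ} (j : ι) (c : (Fin (p + 1) → ι) → M) (hc : D c = 0) : D (cone j c) = c := by
  funext t
  have h := D_cons c j t
  rw [hc, Pi.zero_apply] at h
  exact (sub_eq_zero.1 h.symm).symm

/-- A cochain supported on tuples passing through all of `N`. -/
def Supp (N : Set ι) {p : ℕ} (c : (Fin p → ι) → M) : Prop :=
  ∀ t, ¬ N ⊆ Set.range t → c t = 0

theorem Supp.D {N : Set ι} {p : ℕ} {c : (Fin p → ι) → M} (hc : Supp N c) : Supp N (ProjCohom.D c) := by
  intro t ht
  refine Finset.sum_eq_zero fun k _ => ?_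
  rw [hc _ (fun h => ht (h.trans (Set.range_comp_subset_range _ _))), smul_zero]

theorem Supp.cone {N : Set ι} {j : ι} (hj : j ∉ N) {p : ℕ} {c : (Fin (p + 1) → ι) → M} (hc : Supp N c) :
    Supp N (cone j c) := by
  intro t ht
  refine hc _ fun h => ht fun i hi => ?_
  obtain ⟨k, rfl⟩ := h hi
  refine Fin.cases (fun h0 => absurd (Fin.cons_zero (α := fun _ => ι) j t ▸ h0) hj)
    (fun k' _ => ⟨k', by rw [Fin.cons_succ]⟩) k hi

/-- Avoiding the vertex `0`. -/
def avoid0 {m p : ℕ} (c : (Fin p → Fin (m + 1)) → M) (t : Fin p → Fin m) : M := c (Fin.succ ∘ t)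

open Classical in
/-- Extension by zero from the tuples avoiding `0`. -/
noncomputable def ext0 {m p : ℕ} (c : (Fin p → Fin m) → M) (t : Fin p → Fin (m + 1)) : M :=
  if h : ∀ k, t k ≠ 0 then c fun k => (t k).pred (h k) else 0

theorem ext0_succ {m p : ℕ} (c : (Fin p → Fin m) → M) (t : Fin p → Fin m) :
    ext0 c (Fin.succ ∘ t) = c t := by
  rw [ext0, dif_pos (show ∀ k, (Fin.succ ∘ t) k ≠ 0 from fun k => Fin.succ_ne_zero _)]
  exact congrArg c (funext fun k => Fin.pred_succ _)

theorem D_ext0_succ {m p : ℕ} (c : (Fin p → Fin m) → M) (t : Fin (p + 1) → Fin m) :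
    D (ext0 c) (Fin.succ ∘ t) = D c t := by
  refine Finset.sum_congr rfl fun k _ => ?_
  rw [Function.comp_assoc, ext0_succ]

theorem exists_pred {m p : ℕ} (t : Fin p → Fin (m + 1)) (h : ∀ k, t k ≠ 0) : ∃ t', Fin.succ ∘ t' = t :=
  ⟨fun k => (t k).pred (h k), funext fun k => Fin.succ_pred _ _⟩

theorem supp_ext0 {m p : ℕ} {c : (Fin p → Fin m) → M} (hc : Supp Set.univ c) :
    Supp (Set.range Fin.succ) (ext0 c) := by
  intro t ht
  by_cases h : ∀ k, t k ≠ 0
  · obtain ⟨t', rfl⟩ := exists_pred t h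
    rw [ext0_succ]
    exact hc t' fun hs => ht fun i ⟨a, ha⟩ => by
      obtain ⟨k, rfl⟩ := hs (Set.mem_univ a)
      exact ⟨k, ha⟩
  · rw [ext0, dif_neg h]

theorem supp_avoid0 {m p : ℕ} {c : (Fin p → Fin (m + 1)) → M} (hc : Supp (Set.range Fin.succ) c) :
    Supp Set.univ (avoid0 c) := by
  intro t ht
  refine hc _ fun hs => ht fun i _ => ?_
  obtain ⟨k, hk⟩ := hs ⟨i, rfl⟩
  exact ⟨k, Fin.succ_injective _ hk⟩

theorem supp_univ {m p : ℕ} {c : (Fin p → Fin (m + 1)) → M} (hc : Supp (Set.range Fin.succ) c)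
    (h : avoid0 c = 0) : Supp Set.univ c := by
  intro t ht
  by_cases h0 : ∀ k, t k ≠ 0
  · obtain ⟨t', rfl⟩ := exists_pred t h0
    exact congrFun h t'
  · refine hc t fun hs => ht fun i _ => ?_
    rcases Fin.eq_zero_or_eq_succ i with rfl | ⟨a, rfl⟩
    · push_neg at h0; exact h0
    · exact hs ⟨a, rfl⟩

theorem not_univ_subset_range {m p : ℕ} (hp : p < m) (t : Fin p → Fin m) : ¬ Set.univ ⊆ Set.range t := fun h => by
  have := Fintype.card_le_of_surjective t (fun i => h trivial)
  simp at this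
  omega

/-- **The cohomology of the boundary-relative simplex.** Exactness. -/
theorem exists_of_supp_univ : ∀ (m p : ℕ) (c : (Fin (p + 1) → Fin (m + 1)) → M), Supp Set.univ c → D c = 0 →
    (∀ h : p = m, c (Fin.cast (congrArg Nat.succ h)) = 0) →
    ∃ b : (Fin p → Fin (m + 1)) → M, Supp Set.univ b ∧ D b = c ∧ (p = 0 → b = 0) := by
  intro m
  induction m with
  | zero =>
    haveI : Subsingleton (Fin (0 + 1)) := ⟨fun a b => by omega⟩
    intro p c hc hd h0
    rcases p with _ | p
    · refine ⟨0, fun _ _ => rfl, ?_, fun _ => rfl⟩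
      funext t
      rw [D_zero, Pi.zero_apply, show t = Fin.cast (congrArg Nat.succ (rfl : (0 : ℕ) = 0)) from Subsingleton.elim _ _]
      exact (h0 rfl).symm
    · refine ⟨cone 0 c, fun t ht => (ht fun i _ => ⟨0, Subsingleton.elim _ _⟩).elim, D_cone 0 c hd, fun h => by omega⟩
  | succ m ih =>
    intro p c hc hd h0
    rcases p with _ | p
    · refine ⟨0, fun _ _ => rfl, ?_, fun _ => rfl⟩
      funext t
      rw [D_zero, hc t (not_univ_subset_range (by omega) t), Pi.zero_apply]
    have hj : (0 : Fin (m + 2)) ∉ Set.range (Fin.succ : Fin (m + 1) → Fin (m + 2)) := fun ⟨a, ha⟩ => Fin.succ_ne_zero a ha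
    have hcS : Supp (Set.range Fin.succ) c := fun t ht => hc t fun h => ht ((Set.subset_univ _).trans h)
    let g := cone 0 c
    have hg : Supp (Set.range Fin.succ) g := hcS.cone hj
    have hDg : D g = c := D_cone 0 c hd
    let c' := avoid0 g
    have hc' : D c' = 0 := by
      funext t
      have : D c' t = D g (Fin.succ ∘ t) := rfl
      rw [this, hDg]
      exact hc _ fun h => by
        obtain ⟨k, hk⟩ := h (Set.mem_univ (0 : Fin (m + 2)))
        exact Fin.succ_ne_zero _ hk
    obtain ⟨e, he, hDe, he0⟩ := ih p c' (supp_avoid0 hg) hc' fun h => by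
      have h' := h0 (congrArg Nat.succ h)
      subst h
      refine Eq.trans ?_ h'
      refine congrArg c ?_
      funext k
      refine Fin.cases ?_ (fun k' => ?_) k <;> simp
    refine ⟨g - D (ext0 e), supp_univ ?_ ?_, ?_, fun h => by omega⟩
    · intro t ht
      rw [Pi.sub_apply, hg t ht, (supp_ext0 he).D t ht, sub_zero]
    · funext t
      show g (Fin.succ ∘ t) - D (ext0 e) (Fin.succ ∘ t) = 0
      rw [D_ext0_succ, hDe]
      exact sub_self _
    · rw [D_sub, D_D, hDg, sub_zero]

/-- Surjectivity of the evaluation on top cocycles. -/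
theorem exists_cocycle : ∀ (m : ℕ) (v : M), ∃ c : (Fin (m + 1) → Fin (m + 1)) → M,
    Supp Set.univ c ∧ D c = 0 ∧ c id = v := by
  intro m
  induction m with
  | zero =>
    haveI : Subsingleton (Fin (0 + 1)) := ⟨fun a b => by omega⟩
    intro v
    exact ⟨fun _ => v, fun t ht => (ht fun i _ => ⟨0, Subsingleton.elim _ _⟩).elim,
      funext fun t => by simp [D, Fin.sum_univ_succ], rfl⟩
  | succ m ih =>
    intro v
    obtain ⟨c', hc', hd', hv⟩ := ih v
    refine ⟨D (ext0 c'), supp_univ (supp_ext0 hc').D ?_, D_D _, ?_⟩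
    · funext t
      show D (ext0 c') (Fin.succ ∘ t) = 0
      rw [D_ext0_succ, hd']; rfl
    · rw [D, Fin.sum_univ_succ, Finset.sum_eq_zero, add_zero]
      · rw [Fin.val_zero, pow_zero, one_smul, Fin.succAbove_zero, Function.id_comp]
        exact (ext0_succ c' id).trans hv
      · intro k _
        rw [ext0, dif_neg, smul_zero]
        push_neg
        exact ⟨0, by simp [Fin.succ_succAbove_zero]⟩

/-- Boundaries vanish on the identity tuple. -/
theorem D_id_eq_zero (m : ℕ) {b : (Fin m → Fin (m + 1)) → M} (hb : Supp Set.univ b) : D b id = 0 :=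
  Finset.sum_eq_zero fun k _ => by rw [hb _ (not_univ_subset_range (by omega) _), smul_zero]

end GrothLib.ProjCohom
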